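import Groth.Agent.Lib.DualRing.GorGlobal
import Groth.Agent.Lib.GeomReg.Basic
import Groth.Agent.Lib.LocalDimAlg.Basic
import Groth.Agent.Lib.FibreDimRing.Basic
import Groth.Agent.Lib.FibreDimAt6.Smooth
import Groth.Agent.Lib.Dim.Ring
import Groth.Prelude.Def_FlatCA

/-! # The codimension function along a smooth map -/

set_option autoImplicit false
set_option linter.style.haveILetI false
set_option maxHeartbeats 1000000
universe u

open CategoryTheory CategoryTheory.Limits IsLocalRing GrothLib.DualCx22 TensorProduct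

attribute [local instance] HasDerivedCategory.standard

namespace GrothLib.CodimFun22

open GrothLib.DualRing

variable {A : Type u} [CommRing A] [IsNoetherianRing A] (B : Type u) [CommRing B] [IsLocalRing B]
  [IsNoetherianRing B] [Algebra A B] [Module.Flat A B] [PreservesFiniteLimits (bcMod (A := A) B)]
  {ω : Dual.D A} (hω : Dual.IsDualizing A ω)

/-- The degree of the residue field along a flat local map with Gorenstein closed fibre of dimension `m`. -/
theorem residue_degree (p : Ideal A) [p.IsPrime] (hp : (maximalIdeal B).comap (algebraMap A B) = p)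
    (hG : LocCoh.IsGorensteinLocalRing (B ⧸ p.map (algebraMap A B))) (m : ℕ)
    (hm : ringKrullDim (B ⧸ p.map (algebraMap A B)) = (m : WithBot ℕ∞)) :
    Nontrivial (Dual.inD B (B ⧸ maximalIdeal B) ⟶ ((bcD B).obj ω)⟦(deg hω p + m)⟧) ∧
      ∀ i, i ≠ deg hω p + m → Subsingleton (Dual.inD B (B ⧸ maximalIdeal B) ⟶ ((bcD B).obj ω)⟦i⟧) := by
  subst hp
  let p := (maximalIdeal B).comap (algebraMap A B)
  obtain ⟨a, b, hab⟩ := hω.finite_injective_dimension
  haveI : ω.IsGE a := isGE_of_hom_ring ω a fun i hi => hab A i (Or.inl hi)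
  haveI := isGE_bcD B ω a
  have hp : ∀ s : A, s ∉ p → IsUnit (algebraMap A B s) := fun s hs => by
    by_contra h
    exact hs (show algebraMap A B s ∈ maximalIdeal B from h)
  have hT : ∀ i, i ≠ deg hω p →
      Subsingleton (EH ((bcD B).obj ω) (Dual.inD B (B ⧸ p.map (algebraMap A B))) i) := fun i hi => by
    haveI : Subsingleton (B ⊗[A] EH ω (Dual.inD A (A ⧸ p)) i) := subsingleton_tensor_of_killed B fun y => by
      obtain ⟨s, hs, hsy⟩ := len_eq_zero_iff.1 (mu_ne_deg hω p hi) y
      exact ⟨s, hp s hs, hsy⟩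
    exact (nonempty_equiv_quotient_bcD B ω a p i).some.toEquiv.subsingleton
  obtain ⟨e⟩ := nonempty_tensor_equiv B p hp (smul_EH_quotient (ω := ω) p (deg hω p)) (mu_deg hω p)
  let e' : EH ((bcD B).obj ω) (Dual.inD B (B ⧸ p.map (algebraMap A B))) (deg hω p) ≃ₗ[B] B ⧸ p.map (algebraMap A B) :=
    (nonempty_equiv_quotient_bcD B ω a p (deg hω p)).some ≪≫ₗ e.symm ≪≫ₗ
      (Algebra.TensorProduct.quotIdealMapEquivTensorQuot B p).symm.toLinearEquiv
  haveI := hG
  have hvan := subsingleton_residue_of_gorenstein _ a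
    (fun M _ _ i hi => subsingleton_hom_of_isLE _ a (Dual.inD B M) 0 i (by omega)) m _ _
    (Ideal.map_le_iff_le_comap.2 le_rfl) hG hm hT ⟨e'⟩
  refine ⟨?_, hvan⟩
  have hω' : Dual.IsDualizing B ((bcD B).obj ω) := isDualizing_bcD B hω (deg hω p + m) fun n hn i hi => by
    obtain rfl := IsLocalRing.eq_maximalIdeal hn
    exact hvan i (by omega)
  have h1 : len (maximalIdeal B) (EH ((bcD B).obj ω) (Dual.inD B (B ⧸ maximalIdeal B))
      (deg hω' (maximalIdeal B))) = 1 := mu_deg hω' (maximalIdeal B)
  have hns : ¬ Subsingleton (Dual.inD B (B ⧸ maximalIdeal B) ⟶ ((bcD B).obj ω)⟦deg hω' (maximalIdeal B)⟧) := fun h => by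
    haveI := h
    refine one_ne_zero (h1.symm.trans (len_eq_zero_iff.2 fun y => ⟨1, ?_, Subsingleton.elim _ _⟩))
    exact (Ideal.ne_top_iff_one _).1 (maximalIdeal.isMaximal B).ne_top
  have hdeg : deg hω' (maximalIdeal B) = deg hω p + m := by
    by_contra hne
    exact hns (hvan _ hne)
  rw [hdeg] at hns
  exact not_subsingleton_iff_nontrivial.1 hns

end GrothLib.CodimFun22

namespace GrothLib.CodimFun22

/-- The transcendence degree of a residue field is the dimension of the point's closure in its fibre. -/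
theorem ringKrullDim_quotient_eq (A B : Type u) [CommRing A] [CommRing B] [Algebra A B] [Algebra.FiniteType A B]
    (p : Ideal A) [p.IsPrime] (q : Ideal B) [q.IsPrime] [hq : q.LiesOver p] (t : ℕ)
    (ht : @Algebra.trdeg p.ResidueField q.ResidueField _ _
      (Ideal.ResidueField.mapₐ p q (Algebra.ofId A B) hq.over).toRingHom.toAlgebra = (t : Cardinal.{u})) :
    ringKrullDim (p.Fiber B ⧸ (PrimeSpectrum.primesOverOrderIsoFiber A B p ⟨q, inferInstance, hq⟩).asIdeal) =
      (t : WithBot ℕ∞) := by
  classical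
  let k := p.ResidueField
  let μ := Ideal.ResidueField.mapₐ p q (Algebra.ofId A B) hq.over
  letI : Algebra k q.ResidueField := μ.toRingHom.toAlgebra
  haveI : IsScalarTower A k q.ResidueField := IsScalarTower.of_algebraMap_eq fun a => (μ.commutes a).symm
  let γ : p.Fiber B →ₐ[k] q.ResidueField :=
    Algebra.TensorProduct.lift (Algebra.ofId k q.ResidueField) (IsScalarTower.toAlgHom A B q.ResidueField)
      fun _ _ => Commute.all _ _
  have hγ : ∀ b : B, γ (Algebra.TensorProduct.includeRight b) = algebraMap B q.ResidueField b := fun b => by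
    simp [γ]
  let Q : PrimeSpectrum (p.Fiber B) := ⟨RingHom.ker γ.toRingHom, RingHom.ker_isPrime _⟩
  have hQ : Q.asIdeal.comap Algebra.TensorProduct.includeRight = q := by
    ext b
    show γ (Algebra.TensorProduct.includeRight b) = 0 ↔ b ∈ q
    rw [hγ, Ideal.algebraMap_residueField_eq_zero]
  have hQeq : PrimeSpectrum.primesOverOrderIsoFiber A B p ⟨q, inferInstance, hq⟩ = Q := by
    let e := PrimeSpectrum.primesOverOrderIsoFiber A B p
    apply e.symm.injective
    rw [OrderIso.symm_apply_apply]
    apply Subtype.ext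
    refine Eq.symm ?_
    rw [PrimeSpectrum.coe_primesOverOrderIsoFiber_symm_apply p Q]
    exact hQ
  rw [hQeq]
  let R := γ.range
  let e : (p.Fiber B ⧸ Q.asIdeal) ≃ₐ[k] R := Ideal.quotientKerEquivRange γ
  haveI : (Q.asIdeal).IsPrime := Q.isPrime
  haveI : IsDomain (p.Fiber B ⧸ Q.asIdeal) := Ideal.Quotient.isDomain Q.asIdeal
  obtain ⟨d, hd, hdim⟩ := GrothLib.Dim.exists_nat_trdeg_eq_and_ringKrullDim_eq k (p.Fiber B ⧸ Q.asIdeal)
  rw [hdim]
  haveI : Algebra.IsAlgebraic R q.ResidueField := ⟨fun x => by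
    obtain ⟨y, rfl⟩ : ∃ y, y = x := ⟨x, rfl⟩
    obtain ⟨b, s, hs, hx⟩ : ∃ b s : B, s ∉ q ∧ y * algebraMap B q.ResidueField s = algebraMap B q.ResidueField b := by
      obtain ⟨z, rfl⟩ := IsLocalRing.residue_surjective (R := Localization.AtPrime q) y
      obtain ⟨⟨b, s⟩, hbs⟩ := IsLocalization.surj q.primeCompl z
      refine ⟨b, s, s.2, ?_⟩
      have h := congrArg (IsLocalRing.residue (Localization.AtPrime q)) hbs
      rw [map_mul] at h
      exact h
    let S₀ : R := ⟨algebraMap B q.ResidueField s, ⟨_, hγ s⟩⟩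
    let B₀ : R := ⟨algebraMap B q.ResidueField b, ⟨_, hγ b⟩⟩
    have hS₀ : S₀ ≠ 0 := fun h => hs (Ideal.algebraMap_residueField_eq_zero.1 (congrArg Subtype.val h))
    refine ⟨Polynomial.C S₀ * Polynomial.X - Polynomial.C B₀, fun h => hS₀ ?_, ?_⟩
    · simpa using congrArg (fun f => Polynomial.coeff f 1) h
    · simp only [map_sub, map_mul, Polynomial.aeval_C, Polynomial.aeval_X]
      show algebraMap B q.ResidueField s * y - algebraMap B q.ResidueField b = 0
      rw [mul_comm, hx, sub_self]⟩
  have h2 := trdeg_add_eq k R (A := q.ResidueField)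
  rw [trdeg_eq_zero (R := R) (A := q.ResidueField), add_zero, ← AlgEquiv.trdeg_eq (R := k) (A := p.Fiber B ⧸ Q.asIdeal) (A' := R) e, hd, ht] at h2
  exact_mod_cast h2

/-- The closed fibre of the local ring of a point of a smooth algebra. -/
theorem smooth_fibre (A B : Type u) [CommRing A] [CommRing B] [Algebra A B] [IsNoetherianRing A] (n : ℕ)
    (hs : FlatCA.SmoothRelDim n A B) (p : Ideal A) [p.IsPrime] (q : Ideal B) [q.IsPrime] [hq : q.LiesOver p] (t : ℕ)
    (ht : @Algebra.trdeg p.ResidueField q.ResidueField _ _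
      (Ideal.ResidueField.mapₐ p q (Algebra.ofId A B) hq.over).toRingHom.toAlgebra = (t : Cardinal.{u})) :
    ∃ m : ℕ, m + t = n ∧ Algebra.Smooth A B ∧
      LocCoh.IsGorensteinLocalRing (Localization.AtPrime q ⧸ p.map (algebraMap A (Localization.AtPrime q))) ∧
      ringKrullDim (Localization.AtPrime q ⧸ p.map (algebraMap A (Localization.AtPrime q))) = (m : WithBot ℕ∞) := by
  let f := AlgebraicGeometry.Spec.map (CommRingCat.ofHom (algebraMap A B))
  haveI : AlgebraicGeometry.SmoothOfRelativeDimension n f := hs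
  haveI : AlgebraicGeometry.Smooth f := AlgebraicGeometry.SmoothOfRelativeDimension.smooth n f
  haveI hsm : Algebra.Smooth A B := RingHom.smooth_algebraMap.1
    ((AlgebraicGeometry.HasRingHomProperty.Spec_iff (P := @AlgebraicGeometry.Smooth)
      (φ := CommRingCat.ofHom (algebraMap A B))).1 inferInstance)
  haveI : Algebra.FiniteType A B := inferInstance
  let k := p.ResidueField
  let F := p.Fiber B
  haveI : Algebra.Smooth k F := inferInstance
  haveI : IsRegularRing F := GrothLib.GeomReg.isRegularRing_of_smooth k F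
  let Q := PrimeSpectrum.primesOverOrderIsoFiber A B p ⟨q, inferInstance, hq⟩
  have hQ : Q.asIdeal.comap Algebra.TensorProduct.includeRight = q := by
    rw [← PrimeSpectrum.coe_primesOverOrderIsoFiber_symm_apply p Q, OrderIso.symm_apply_apply]
  have hdimQ := ringKrullDim_quotient_eq A B p q t ht
  have hover : (Q.asIdeal.comap Algebra.TensorProduct.includeRight : Ideal B).LiesOver p := by
    rw [hQ]; exact hq
  obtain ⟨e⟩ : Nonempty (Localization.AtPrime Q.asIdeal ≃+*
      (Localization.AtPrime q ⧸ p.map (algebraMap A (Localization.AtPrime q)))) := by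
    suffices key : Nonempty (Localization.AtPrime Q.asIdeal ≃+*
        (Localization.AtPrime (Q.asIdeal.comap Algebra.TensorProduct.includeRight) ⧸
          p.map (algebraMap A (Localization.AtPrime (Q.asIdeal.comap Algebra.TensorProduct.includeRight))))) from
      (fun (r : Ideal B) [r.IsPrime] (e : r = q) (h : Nonempty (Localization.AtPrime Q.asIdeal ≃+*
          (Localization.AtPrime r ⧸ p.map (algebraMap A (Localization.AtPrime r))))) =>
        (by subst e; exact h : Nonempty (Localization.AtPrime Q.asIdeal ≃+*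
          (Localization.AtPrime q ⧸ p.map (algebraMap A (Localization.AtPrime q)))))) _ hQ key
    let _ := Localization.AtPrime.algebraOfLiesOver p (Q.asIdeal.comap Algebra.TensorProduct.includeRight : Ideal B)
    exact ⟨(Ideal.Fiber.localizationAlgEquivQuotient p Q.asIdeal).toRingEquiv⟩
  haveI : IsRegularLocalRing (Localization.AtPrime Q.asIdeal) := IsRegularRing.isRegularLocalRing_localization _
  haveI : IsRegularLocalRing (Localization.AtPrime q ⧸ p.map (algebraMap A (Localization.AtPrime q))) :=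
    IsRegularLocalRing.of_ringEquiv (R := Localization.AtPrime Q.asIdeal) e
  haveI : Algebra.FiniteType k F := inferInstance
  haveI : IsNoetherianRing F := Algebra.FiniteType.isNoetherianRing k F
  have hloc : FlatMor.localDim (PrimeSpectrum F) Q = (n : WithBot ℕ∞) :=
    (GrothLib.FibreDimRing.fibreDimAt_eq_localDim (⟨q, inferInstance⟩ : PrimeSpectrum B) p hq.over.symm Q hQ).symm.trans
      (GrothLib.FibreDimAt6.fibreDimAt_eq_of_smooth n f (⟨q, inferInstance⟩ : PrimeSpectrum B))
  rw [GrothLib.LocalDimAlg.localDim_eq k Q.asIdeal, hdimQ] at hloc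
  obtain ⟨m, hm⟩ := ENat.ne_top_iff_exists.1 (Ideal.height_ne_top (I := Q.asIdeal) Ideal.IsPrime.ne_top')
  refine ⟨m, ?_, hsm, GrothLib.GorFlat.gorenstein_of_isRegularLocalRing _, ?_⟩
  · rw [← hm] at hloc
    exact_mod_cast hloc
  · exact (ringKrullDim_eq_of_ringEquiv e).symm.trans
      ((IsLocalization.AtPrime.ringKrullDim_eq_height Q.asIdeal (Localization.AtPrime Q.asIdeal)).trans
        (by rw [← hm]; rfl))

end GrothLib.CodimFun22
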